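import Groth.Agent.FlatClosure.Basic
import Groth.Agent.GrothSS.ChangeRings
import Groth.Agent.RelPCS.FlatBase
import Groth.Agent.AssLib.Points
import Groth.Agent.FlatModB.Basic
import Groth.Agent.QC.Localisation

/-!
The flat quotient of a quasi-coherent module with prescribed generic fibre over a Dedekind base.
-/

set_option autoImplicit false
set_option linter.style.haveILetI false
set_option backward.isDefEq.respectTransparency false
set_option backward.isDefEq.respectTransparency.types false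

universe u

open CategoryTheory CategoryTheory.Limits AlgebraicGeometry TopologicalSpace Opposite
open Groth.Agent.KFlat

noncomputable section

namespace Groth.Agent.FlatQuot

section Preimmersion

variable {Z X : Scheme.{u}} (i : Z ⟶ X) [IsPreimmersion i]

theorem pushStalk_bijective (z : Z) (A : Z.Modules) : Function.Bijective (pushStalk i z A) := by
  have h := TopCat.Presheaf.stalkPushforward.stalkPushforward_iso_of_isInducing
    (C := AddCommGrpCat.{u}) i.isEmbedding.isInducing (DCoh.toP.obj A).presheaf z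
  have hb := ConcreteCategory.bijective_of_isIso (C := AddCommGrpCat.{u})
    (TopCat.Presheaf.stalkPushforward AddCommGrpCat.{u} i.base (DCoh.toP.obj A).presheaf z)
  suffices he : ∀ m, pushStalk i z A m =
      (TopCat.Presheaf.stalkPushforward AddCommGrpCat.{u} i.base (DCoh.toP.obj A).presheaf z).hom m from
    ⟨fun a b hab => hb.1 ((he a).symm.trans (hab.trans (he b))), fun w => (hb.2 w).imp fun a ha => (he a).trans ha⟩
  intro m
  obtain ⟨U, hU, s, rfl⟩ := exists_pgerm (DCoh.toP.obj ((Scheme.Modules.pushforward i).obj A)) (i.base z) m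
  rw [pushStalk_germ]
  exact (ConcreteCategory.congr_hom
    (TopCat.Presheaf.stalkPushforward_germ AddCommGrpCat.{u} i.base (DCoh.toP.obj A).presheaf U z hU) s).symm

theorem kap_surjective (z : Z) (G : X.Modules) : Function.Surjective (kap i z G) := by
  have hφ : Function.Surjective (i.stalkMap z).hom := i.stalkMap_surjective z
  let W := (DerSch.stalkFunctor Z z).obj ((Scheme.Modules.pullback i).obj G)
  let N : Submodule (Z.presheaf.stalk z) W :=
    { carrier := Set.range (kap i z G)
      add_mem' := by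
        rintro _ _ ⟨a, rfl⟩ ⟨b, rfl⟩
        exact ⟨a + b, map_add _ a b⟩
      zero_mem' := ⟨0, map_zero _⟩
      smul_mem' := by
        rintro r _ ⟨a, rfl⟩
        obtain ⟨r', rfl⟩ := hφ r
        exact ⟨r' • a, kap_smul i z G r' a⟩ }
  have h : ModuleCat.ofHom N.mkQ = (0 : W ⟶ ModuleCat.of (Z.presheaf.stalk z) (W ⧸ N)) :=
    pull_stalk_ext i z G fun m => (Submodule.Quotient.mk_eq_zero N).mpr ⟨m, rfl⟩
  intro w
  have hw : Submodule.Quotient.mk (p := N) w = 0 := congrArg (fun g : W ⟶ _ => g.hom w) h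
  exact (Submodule.Quotient.mk_eq_zero N).mp hw

theorem isIso_counit (A : Z.Modules) : IsIso ((Scheme.Modules.pullbackPushforwardAdjunction i).counit.app A) := by
  refine KFlat.isIso_of_stalks _ fun z => ?_
  rw [ConcreteCategory.isIso_iff_bijective]
  refine ⟨fun a b hab => ?_, fun w => ?_⟩
  · obtain ⟨a, rfl⟩ := kap_surjective i z _ a
    obtain ⟨b, rfl⟩ := kap_surjective i z _ b
    exact congrArg _ ((pushStalk_bijective i z A).1 hab)
  · obtain ⟨m, hm⟩ := (pushStalk_bijective i z A).2 w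
    exact ⟨kap i z _ m, hm⟩

theorem kap_injective [Flat i] (z : Z) (G : X.Modules) : Function.Injective (kap i z G) := by
  have hinj : Function.Injective (i.stalkMap z).hom := by
    letI := (i.stalkMap z).hom.toAlgebra
    haveI : Module.Flat (X.presheaf.stalk (i z)) (Z.presheaf.stalk z) := Flat.stalkMap i z
    haveI : IsLocalHom (algebraMap (X.presheaf.stalk (i z)) (Z.presheaf.stalk z)) :=
      inferInstanceAs (IsLocalHom (i.stalkMap z).hom)
    haveI := Module.FaithfullyFlat.of_flat_of_isLocalHom (A := X.presheaf.stalk (i z)) (B := Z.presheaf.stalk z)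
    exact FaithfulSMul.algebraMap_injective (X.presheaf.stalk (i z)) (Z.presheaf.stalk z)
  let e := RingEquiv.ofBijective (i.stalkMap z).hom ⟨hinj, i.stalkMap_surjective z⟩
  let M := (DerSch.stalkFunctor X (i z)).obj G
  letI : Module (Z.presheaf.stalk z) M := Module.compHom M e.symm.toRingHom
  let P : ModuleCat.{u} (Z.presheaf.stalk z) := ModuleCat.of (Z.presheaf.stalk z) M
  let h : (DerSch.stalkFunctor X (i.base z)).obj G ⟶ (ModuleCat.restrictScalars (i.stalkMap z).hom).obj P :=
    ModuleCat.ofHom (Y := (ModuleCat.restrictScalars (i.stalkMap z).hom).obj P)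
      { toFun := fun m => m
        map_add' := fun _ _ => rfl
        map_smul' := fun r m => by
          change r • m = e.symm ((i.stalkMap z).hom r) • m
          rw [show e.symm ((i.stalkMap z).hom r) = r from e.symm_apply_apply r] }
  obtain ⟨g, hg⟩ := exists_pull_stalk_desc i z G h
  intro a b hab
  exact (hg a).symm.trans ((congrArg g.hom hab).trans (hg b))

end Preimmersion

variable {X Y : Scheme.{u}} [IsIntegral Y] [IsLocallyNoetherian Y]
  (hY : ∀ y : Y, IsRegularLocalRing (Y.presheaf.stalk y) ∧ ringKrullDim (Y.presheaf.stalk y) ≤ 1)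
  (f : X ⟶ Y)

/-- An associated point of the structure sheaf of an integral scheme is generic. -/
theorem eq_genericPoint_of_isAssPoint {y : Y} (hy : Curv2.IsAssPoint (Coh.structureModule Y) y) :
    y = genericPoint Y := by
  rw [AssLib.ass_struct_iff] at hy
  have hbot : IsLocalRing.maximalIdeal (Y.presheaf.stalk y) = ⊥ := by
    obtain ⟨-, t, ht⟩ := hy
    have ht0 : t ≠ 0 := fun e => (IsLocalRing.maximalIdeal.isMaximal (Y.presheaf.stalk y)).ne_top (by
      rw [ht, e, Ideal.eq_top_iff_one]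
      exact Ideal.le_radical (by simp [Submodule.mem_colon_singleton]))
    rw [eq_bot_iff]
    intro a ha
    rw [ht] at ha
    obtain ⟨k, hk⟩ := ha
    simp [Submodule.mem_colon_singleton, ht0] at hk
    simp [hk]
  obtain ⟨V, hV, hyV, -⟩ := exists_isAffineOpen_mem_and_subset (X := Y) (U := ⊤) (trivial : y ∈ (⊤ : Y.Opens))
  haveI : Nonempty V := ⟨⟨y, hyV⟩⟩
  letI := Y.presheaf.algebra_section_stalk (⟨y, hyV⟩ : V)
  haveI := hV.isLocalization_stalk ⟨y, hyV⟩
  have hp : (hV.primeIdealOf ⟨y, hyV⟩).asIdeal = ⊥ := by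
    rw [eq_bot_iff]
    intro r hr
    have := (IsLocalization.AtPrime.to_map_mem_maximal_iff (Y.presheaf.stalk y) (hV.primeIdealOf ⟨y, hyV⟩).asIdeal r).2 hr
    rw [hbot, Ideal.mem_bot] at this
    exact (map_eq_zero_iff _ (germ_injective_of_isIntegral Y y hyV)).1 this
  have e : hV.primeIdealOf ⟨y, hyV⟩ = hV.primeIdealOf ⟨genericPoint Y,
      ((genericPoint_spec Y).mem_open_set_iff V.isOpen).mpr ⟨y, trivial, hyV⟩⟩ := by
    rw [hV.primeIdealOf_genericPoint, genericPoint_eq_bot_of_affine]
    exact PrimeSpectrum.ext hp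
  exact (hV.fromSpec_primeIdealOf ⟨y, hyV⟩).symm.trans ((congrArg _ e).trans (hV.fromSpec_primeIdealOf _))

include hY in
theorem main (F : X.Modules) (hF : Coh.IsQCoh F) (G' : (f.fiber (genericPoint Y)).Modules) (hG' : Coh.IsQCoh G')
    (π : (Scheme.Modules.pullback (f.fiberι (genericPoint Y))).obj F ⟶ G') [Epi π] :
    (∃ (G : X.Modules) (ρ : F ⟶ G) (e : (Scheme.Modules.pullback (f.fiberι (genericPoint Y))).obj G ≅ G'),
        Epi ρ ∧ Coh.IsQCoh G ∧ FlatMod.IsFlatOver f G ∧
          (Scheme.Modules.pullback (f.fiberι (genericPoint Y))).map ρ ≫ e.hom = π) ∧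
      ∀ (G₁ G₂ : X.Modules) (ρ₁ : F ⟶ G₁) (ρ₂ : F ⟶ G₂)
        (e₁ : (Scheme.Modules.pullback (f.fiberι (genericPoint Y))).obj G₁ ≅ G')
        (e₂ : (Scheme.Modules.pullback (f.fiberι (genericPoint Y))).obj G₂ ≅ G'),
        Epi ρ₁ → Epi ρ₂ → Coh.IsQCoh G₁ → Coh.IsQCoh G₂ → FlatMod.IsFlatOver f G₁ → FlatMod.IsFlatOver f G₂ →
        (Scheme.Modules.pullback (f.fiberι (genericPoint Y))).map ρ₁ ≫ e₁.hom = π →
        (Scheme.Modules.pullback (f.fiberι (genericPoint Y))).map ρ₂ ≫ e₂.hom = π →
        ∃ e : G₁ ≅ G₂, ρ₁ ≫ e.hom = ρ₂ := by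
  let η := genericPoint Y
  let ξ := Y.fromSpecResidueField η
  haveI : Flat ξ := FlatClosure.flat_fromSpecResidueField_generic Y
  haveI : QuasiCompact ξ := inferInstance
  haveI : QuasiSeparated ξ := inferInstance
  let i := f.fiberι η
  let q := f.fiberToSpecResidueField η
  have hi : IsPullback i q f ξ := IsPullback.of_hasPullback f ξ
  haveI : Flat i := MorphismProperty.of_isPullback (P := @Flat) hi.flip ‹_›
  haveI : QuasiCompact i := MorphismProperty.of_isPullback (P := @QuasiCompact) hi.flip ‹_›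
  haveI : QuasiSeparated i := MorphismProperty.of_isPullback (P := @QuasiSeparated) hi.flip ‹_›
  let adj := Scheme.Modules.pullbackPushforwardAdjunction i
  haveI : PreservesFiniteLimits (Scheme.Modules.pullback i) := RelPCS.preservesFiniteLimits_pullback i
  haveI hco : ∀ A, IsIso (adj.counit.app A) := isIso_counit i
  haveI := hG'
  have hP : Coh.IsQCoh ((Scheme.Modules.pushforward i).obj G') := QC.isQCoh_pushforward i
  let a : F ⟶ (Scheme.Modules.pushforward i).obj G' := adj.homEquiv F G' π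
  have key : ∀ (G₁ : X.Modules) (ρ₁ : F ⟶ G₁) (e₁ : (Scheme.Modules.pullback i).obj G₁ ≅ G'),
      Coh.IsQCoh G₁ → FlatMod.IsFlatOver f G₁ → (Scheme.Modules.pullback i).map ρ₁ ≫ e₁.hom = π →
        ∃ b : G₁ ⟶ (Scheme.Modules.pushforward i).obj G', Mono b ∧ ρ₁ ≫ b = a := by
    intro G₁ ρ₁ e₁ hG₁ hfl he
    refine ⟨adj.homEquiv G₁ G' e₁.hom, ?_, ?_⟩
    · rw [adj.homEquiv_unit]
      suffices Mono (adj.unit.app G₁) by
        haveI : IsIso ((Scheme.Modules.pushforward i).map e₁.hom) := inferInstance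
        exact mono_comp _ _
      refine (QC.mono_iff_app_injective _).2 fun U => (injective_iff_map_eq_zero _).2 fun s hs => ?_
      refine WeakAssLib.eq_zero_of_forall hG₁ s fun y hy hw => ?_
      have hfy : f y = η := eq_genericPoint_of_isAssPoint
        (AssLib.map_ass_of_flatOver f G₁ hfl ((WeakAssLib.isAssPoint_iff G₁ y).2 hw))
      obtain ⟨z, rfl⟩ : y ∈ Set.range i := by
        rw [show Set.range i = f ⁻¹' {η} from f.range_fiberι η]
        exact hfy
      refine kap_injective i z G₁ ?_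
      refine (kap_germ i z G₁ U hy s).trans ?_
      rw [map_zero]
      refine (congrArg (pgerm _ z (i ⁻¹ᵁ U) hy) (show pullSec i G₁ U s = 0 from hs)).trans (map_zero _)
    · rw [← adj.homEquiv_naturality_left, he]
  refine ⟨?_, ?_⟩
  · let G := cokernel (kernel.ι a)
    let ρ : F ⟶ G := cokernel.π (kernel.ι a)
    let b : G ⟶ (Scheme.Modules.pushforward i).obj G' := cokernel.desc (kernel.ι a) a (kernel.condition a)
    have hT : (ShortComplex.mk (kernel.ι a) a (kernel.condition a)).Exact :=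
      ShortComplex.exact_of_f_is_kernel _ (kernelIsKernel a)
    haveI : Mono b := hT.mono_cokernelDesc
    have hG : Coh.IsQCoh G := QC.isQCoh_cokernel (QC.isQCoh_kernel hF hP a) hF _
    let m := (adj.homEquiv G G').symm b
    have hm : (Scheme.Modules.pullback i).map ρ ≫ m = π := by
      rw [← adj.homEquiv_naturality_left_symm, cokernel.π_desc]
      exact Equiv.symm_apply_apply _ _
    haveI : Epi m := by
      haveI : Epi ((Scheme.Modules.pullback i).map ρ ≫ m) := by rw [hm]; infer_instance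
      exact epi_of_epi ((Scheme.Modules.pullback i).map ρ) m
    haveI : Mono m := by
      rw [show m = (Scheme.Modules.pullback i).map b ≫ adj.counit.app G' from adj.homEquiv_counit ..]
      infer_instance
    haveI : IsIso m := isIso_of_mono_of_epi m
    refine ⟨G, ρ, asIso m, inferInstance, hG, ?_, hm⟩
    refine (FlatModB.isFlatOver_iff f G hG).2 fun U V h hU hV => ?_
    letI := FlatModB.secModule f G U V h
    rcases isEmpty_or_nonempty ↥V with hVe | hVne
    · haveI : Subsingleton Γ(G, U) := ⟨fun s t => QC.section_eq_of_locally fun x hx => (hVe.false ⟨f x, h hx⟩).elim⟩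
      infer_instance
    haveI : Nonempty V := hVne
    haveI : IsDomain Γ(Y, V) := inferInstance
    refine (Module.Flat.flat_iff_torsion_eq_bot_of_valuationRing_localization_isMaximal
      fun P _ => FlatClosure.valuationRing_localization hY hV P).2 (eq_bot_iff.2 ?_)
    rintro c ⟨⟨r, hr⟩, hc⟩
    have hηV : η ∈ V := ((genericPoint_spec Y).mem_open_set_iff V.2).2 ⟨hVne.some.1, trivial, hVne.some.2⟩
    have hu : IsUnit ((i.app U).hom ((f.appLE V U h).hom r)) := by
      have e1 : (i.app U).hom ((f.appLE V U h).hom r) = (i ≫ f).appLE V (i ⁻¹ᵁ U) (fun z hz => h hz) r := by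
        rw [← Scheme.Hom.appLE_comp_appLE i f V U (i ⁻¹ᵁ U) h le_rfl, CommRingCat.comp_apply,
          ← Scheme.Hom.app_eq_appLE]
      rw [e1]
      have aux : ∀ (g : f.fiber η ⟶ Y), g = q ≫ ξ → ∀ (he : i ⁻¹ᵁ U ≤ g ⁻¹ᵁ V), IsUnit (g.appLE V (i ⁻¹ᵁ U) he r) := by
        rintro _ rfl he
        exact FlatClosure.isUnit_appLE q hηV he (nonZeroDivisors.ne_zero hr)
      exact aux _ hi.w _
    have hbc : b.app U c = 0 := by
      have h1 := congrArg (b.app U) (show (f.appLE V U h).hom r • c = 0 from hc)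
      rw [map_zero, Scheme.Modules.Hom.app_smul] at h1
      let t : Γ(G', i ⁻¹ᵁ U) := b.app U c
      have h2 : (i.app U).hom ((f.appLE V U h).hom r) • t = 0 := h1
      have h3 : t = 0 := hu.smul_eq_zero.1 h2
      exact h3
    exact QC.app_injective_of_mono b U (hbc.trans (map_zero _).symm)
  · intro G₁ G₂ ρ₁ ρ₂ e₁ e₂ he₁ he₂ hG₁ hG₂ hf₁ hf₂ h₁ h₂
    obtain ⟨b₁, hb₁, hρ₁⟩ := key G₁ ρ₁ e₁ hG₁ hf₁ h₁
    obtain ⟨b₂, hb₂, hρ₂⟩ := key G₂ ρ₂ e₂ hG₂ hf₂ h₂
    have k₁ : kernel.ι ρ₁ ≫ ρ₂ = 0 := (cancel_mono b₂).1 (by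
      rw [Category.assoc, hρ₂, ← hρ₁, kernel.condition_assoc, zero_comp, zero_comp])
    have k₂ : kernel.ι ρ₂ ≫ ρ₁ = 0 := (cancel_mono b₁).1 (by
      rw [Category.assoc, hρ₁, ← hρ₂, kernel.condition_assoc, zero_comp, zero_comp])
    refine ⟨⟨Abelian.epiDesc ρ₁ ρ₂ k₁, Abelian.epiDesc ρ₂ ρ₁ k₂, ?_, ?_⟩, Abelian.comp_epiDesc _ _ _⟩
    · rw [← cancel_epi ρ₁, Abelian.comp_epiDesc_assoc, Abelian.comp_epiDesc, Category.comp_id]
    · rw [← cancel_epi ρ₂, Abelian.comp_epiDesc_assoc, Abelian.comp_epiDesc, Category.comp_id]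

end Groth.Agent.FlatQuot
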